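import Groth.Agent.HypHilb28.Basic
import Groth.Agent.PicPn.Main
import Groth.Agent.TwistFlat.Pn
import Groth.Agent.HilbPolyX.Sheaf
import Groth.Agent.EulerChar.Cartier
import Groth.Agent.ProjTwist.Pn.TopCohom
import Groth.Agent.ProjTwist.Pn.Finite
import Groth.Agent.DualAbs.Depth
import Groth.Agent.RegLoc.UFD
import Groth.Agent.S18573
import Groth.Agent.S10829
import Groth.Agent.S4466

/-!
# Ideal sheaves on projective space with the Hilbert polynomial of a hypersurface
-/

set_option autoImplicit false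
set_option linter.style.haveILetI false

universe u

open CategoryTheory CategoryTheory.Limits AlgebraicGeometry TopologicalSpace

noncomputable section

namespace Groth.Agent.HypHilb28

open Groth.Agent.ProjTwist

variable (k : Type u) [Field k] (r : ℕ)

theorem isIntegral_Pn : IsIntegral (CohB1.ProjSpace r k) := by
  haveI : ∀ y : CohB1.ProjSpace r k, _root_.IsReduced ((CohB1.ProjSpace r k).presheaf.stalk y) := fun y =>
    haveI := DualAbs.isRegularLocalRing_stalk (k := k) (N := r) y
    haveI := RegLoc.isDomain ((CohB1.ProjSpace r k).presheaf.stalk y)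
    inferInstance
  haveI : IsReduced (CohB1.ProjSpace r k) := isReduced_of_isReduced_stalk _
  haveI := S18573.irreducibleSpace_projSpace r k
  exact isIntegral_of_irreducibleSpace_of_isReduced _

theorem euler_twist_Pn (hr : 0 < r) (n : ℤ) :
    Curv2.euler k (CohB1.ProjSpace r k) (Twist.twistProjSpace r k n) = Ring.choose (n + r) r := by
  haveI : IsProper (CohB1.ProjSpace r k ↘ Spec (CommRingCat.of k)) := ProjProper.Basic.isProper_toSpec r k
  rw [← Groth.Agent.S4466.result k r hr n]
  refine EulerChar.euler_eq_sum k fun m hm => ?_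
  obtain ⟨q, rfl⟩ := Nat.exists_eq_add_of_le' (show 1 ≤ m by omega)
  exact ProjTwist.Pn.subsingleton_twist (n := r) (R := k) n q (Or.inl (by omega))

theorem isProper_Pn : IsProper (CohB1.ProjSpace r k ↘ Spec (CommRingCat.of k)) :=
  ProjProper.Basic.isProper_toSpec r k

attribute [local instance] isProper_Pn

theorem twist_iso_tens (F : (CohB1.ProjSpace r k).Modules) (t : ℕ) :
    Curv2.euler k (CohB1.ProjSpace r k)
        (ShStab.twist (CohB1.ProjSpace r k) (Twist.twistProjSpace r k 1) F t) =
      Curv2.euler k (CohB1.ProjSpace r k)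
        (CohB1.tensorMod F (Twist.twistProjSpace r k (t : ℤ))) :=
  EulerChar.euler_iso k (tensCongr (Iso.refl F) (TwistFlat.nonempty_tensorPow_twist r k t).some)

theorem euler_twist_of_iso (hr : 0 < r) {F : (CohB1.ProjSpace r k).Modules} {e : ℤ}
    (φ : F ≅ Twist.twistProjSpace r k e) (t : ℕ) :
    Curv2.euler k (CohB1.ProjSpace r k)
        (ShStab.twist (CohB1.ProjSpace r k) (Twist.twistProjSpace r k 1) F t) =
      Ring.choose ((t : ℤ) + e + r) r := by
  rw [twist_iso_tens, EulerChar.euler_iso k (tensCongr φ (Iso.refl _) ≪≫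
    (nonempty_twistProjSpace_tensor r k e t).some), euler_twist_Pn k r hr]
  ring_nf

/-- An ideal sheaf on projective space whose quotient has the Hilbert polynomial of a hypersurface of
degree `d` is isomorphic to the twist of degree `-d`. -/
theorem idealMod_iso (d : ℕ) (hr : 1 ≤ r) (I : (CohB1.ProjSpace r k).IdealSheafData)
    (hP : ∀ t : ℤ, Curv2.euler k (CohB1.ProjSpace r k)
        (CohB1.tensorMod (ClSub.quotMod I) (Twist.twistProjSpace r k t)) =
      Ring.choose (t + r) r - Ring.choose (t + r - d) r) :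
    Nonempty (ClSub.idealMod I ≅ Twist.twistProjSpace r k (-(d : ℤ))) := by
  let L₁ := Twist.twistProjSpace r k 1
  haveI := isIntegral_Pn k r
  haveI : IsProper (CohB1.ProjSpace r k ↘ Spec (CommRingCat.of k)) := ProjProper.Basic.isProper_toSpec r k
  haveI := EulerChar.isLocallyNoetherian k (X := CohB1.ProjSpace r k)
  have hA : CohB1.IsAmple L₁ := Pn.isAmple_one
  have hufd : ∀ x : CohB1.ProjSpace r k,
      UniqueFactorizationMonoid ((CohB1.ProjSpace r k).presheaf.stalk x) := fun x =>
    haveI := DualAbs.isRegularLocalRing_stalk (k := k) (N := r) x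
    RegLoc.UFD.uniqueFactorizationMonoid _
  have hnorm : Pi1.IsNormalScheme (CohB1.ProjSpace r k) := fun x =>
    haveI := hufd x
    ⟨inferInstance, inferInstance⟩
  have hO := HomShQC.isCoh_structureModule (X := CohB1.ProjSpace r k)
  haveI : (Coh.structureModule I.subscheme).IsQuasicoherent :=
    ProjTwist.isQuasicoherent_structureModule I.subscheme
  have hJ : Coh.IsCoh (ClSub.idealMod I) :=
    CohDev.isCoh_kernel (ClSub.toSubscheme I) hO (QCoh.isQuasicoherent_pushforward I.subschemeι _)
  have hS := EulerChar.shortExact_ideal I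
  have hQ : Coh.IsCoh (ClSub.quotMod I) :=
    CohDev.isCoh_of_iso ((cokernelIsCokernel (ClSub.idealModι I)).coconePointUniqueUpToIso hS.gIsCokernel)
      (CohDev.isCoh_cokernel (ClSub.idealModι I) hJ.1 hO)
  haveI : Mono (ClSub.idealModι I) := hS.mono_f
  -- the Euler characteristic of the twists of the ideal
  obtain ⟨eO⟩ : Nonempty (Coh.structureModule (CohB1.ProjSpace r k) ≅ Twist.twistProjSpace r k 0) :=
    ⟨twistZeroIso (CohB1.polyGrading r k)⟩
  have hχ : ∀ t : ℕ, Curv2.euler k (CohB1.ProjSpace r k)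
      (ShStab.twist (CohB1.ProjSpace r k) L₁ (ClSub.idealMod I) t) =
        Ring.choose ((t : ℤ) + (-(d : ℤ)) + r) r := fun t => by
    have h := HilbPolyX.euler_twist_add k (L := L₁) hA.1 hS hJ hO hQ t
    dsimp only at h
    rw [euler_twist_of_iso k r hr eO t, twist_iso_tens k r (ClSub.quotMod I), hP] at h
    simp only [add_zero] at h
    rw [show (t : ℤ) + r - d = (t : ℤ) + (-(d : ℤ)) + r by ring] at h
    linarith
  have h0 : ¬ IsZero (ClSub.idealMod I) := fun hz => by
    have h := hχ d
    rw [show (d : ℤ) + (-(d : ℤ)) + r = ((r : ℕ) : ℤ) by ring, Ring.choose_natCast,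
      Nat.choose_self] at h
    rw [EulerChar.euler_of_isZero k] at h
    · exact absurd h (by norm_num)
    · exact Functor.map_isZero (HilbPolyX.twistF L₁ d) hz
  -- the invertible hull
  have hinv := isInvertible_ddual hufd hJ (ClSub.idealModι I) h0
  obtain ⟨e, ⟨φ⟩⟩ := PicPn.exists_iso_twist hinv
  haveI := mono_bidualMap hJ (ClSub.idealModι I)
  let β := RefHull.bidualMap (ClSub.idealMod I)
  have hDD : Coh.IsCoh (RefHull.ddual (ClSub.idealMod I)) :=
    HomShQC.isCoh_dual _ (HomShQC.isCoh_dual _ hJ)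
  have hC : Coh.IsCoh (cokernel β) := CohDev.isCoh_cokernel β hJ.1 hDD
  have hdim : topologicalKrullDim ↥(CohB1.support (cokernel β)) < ((r - 1 : ℕ) : WithBot ℕ∞) :=
    dim_lt_of_two_le_coheight (Groth.Agent.S10829.result k r).le (CohDev.isClosed_support hC)
      fun y hy => two_le_coheight_of_mem_support hnorm hJ hy
  obtain ⟨P, hP', hPev⟩ := HilbPolyX.exists_poly_lt k hA.1 (r - 1) hC hdim
  have hFt : ∀ t : ℕ, ((Ring.choose ((t : ℤ) + (e + r)) r -
      Ring.choose ((t : ℤ) + (-(d : ℤ) + r)) r : ℤ) : ℚ) = P.eval (t : ℚ) := fun t => by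
    have h := HilbPolyX.euler_twist_add k (L := L₁) hA.1 (HilbPolyX.shortExact_of_mono β) hJ hDD hC t
    dsimp only at h
    rw [euler_twist_of_iso k r hr φ t, hχ] at h
    rw [← hPev t, ← add_assoc, ← add_assoc]
    exact congrArg (Int.cast (R := ℚ)) (by linarith)
  have he : e = -(d : ℤ) := by
    obtain ⟨j, rfl⟩ := Nat.exists_eq_add_of_le' hr
    have := eq_of_choose_sub (a := e + ((j + 1 : ℕ) : ℤ)) (b := -(d : ℤ) + ((j + 1 : ℕ) : ℤ))
      (by simpa using hP') hFt
    linarith
  subst he
  have hzero : HilbPolyX.hilb k L₁ (cokernel β) = 0 :=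
    (HilbPolyX.eq_hilb k hA hC (P := 0) fun t => by
      rw [Polynomial.eval_zero, hPev t, ← hFt t]
      simp).symm
  haveI : IsIso β := HilbPolyX.isIso_of_mono_of_cokernel β
    (HilbPolyX.isZero_of_hilb_eq_zero k hA hC hzero)
  exact ⟨asIso β ≪≫ φ⟩

end Groth.Agent.HypHilb28

end
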