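import Mathlib.RingTheory.UniqueFactorizationDomain.GCDMonoid
import Mathlib.Algebra.GCDMonoid.Finset
import Mathlib.RingTheory.Noetherian.Basic
import Mathlib.LinearAlgebra.Dual.Lemmas
import Mathlib.RingTheory.Finiteness.Basic
import Mathlib.Algebra.Polynomial.Taylor
import Mathlib.RingTheory.Binomial
import Mathlib.Algebra.Polynomial.Degree.Operations

/-!
# The dual of a nonzero ideal of a factorial ring, and differences of binomial polynomials
-/

set_option autoImplicit false
set_option linter.style.haveILetI false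

universe u v

namespace Groth.Agent.HypHilb28

open Polynomial

/-- The dual of a module with an injection into a noetherian factorial domain is free of rank one. -/
theorem nonempty_dual_equiv {R : Type u} [CommRing R] [IsDomain R] [UniqueFactorizationMonoid R]
    [IsNoetherianRing R] {N : Type v} [AddCommGroup N] [Module R N] (ι : N →ₗ[R] R)
    (hι : Function.Injective ι) (hne : ∃ w : N, w ≠ 0) :
    Nonempty (R ≃ₗ[R] Module.Dual R N) := by
  classical
  let _ : NormalizedGCDMonoid R := Classical.arbitrary _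
  obtain ⟨w₀, hw₀⟩ := hne
  set x₀ := ι w₀ with hx₀def
  have hx₀ : x₀ ≠ 0 := fun h => hw₀ (hι (h.trans ι.map_zero.symm))
  have key : ∀ (φ : Module.Dual R N) (w : N), φ w * x₀ = φ w₀ * ι w := by
    intro φ w
    have h1 : x₀ • w = ι w • w₀ := hι (by
      rw [map_smul, map_smul, smul_eq_mul, smul_eq_mul, ← hx₀def, mul_comm])
    have h2 := congrArg φ h1
    rw [map_smul, map_smul, smul_eq_mul, smul_eq_mul] at h2
    rw [mul_comm, h2, mul_comm]
  obtain ⟨s, hs⟩ := (IsNoetherian.noetherian (LinearMap.range ι) : (LinearMap.range ι).FG)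
  let g : R := (insert x₀ s).gcd id
  have hg0 : g ≠ 0 := fun h => hx₀ (Finset.gcd_eq_zero_iff.mp h x₀ (Finset.mem_insert_self _ _))
  have hmem : ∀ z ∈ insert x₀ s, ∃ w, ι w = z := fun z hz => by
    rcases Finset.mem_insert.mp hz with rfl | hz
    · exact ⟨w₀, rfl⟩
    · have : z ∈ LinearMap.range ι := hs ▸ Submodule.subset_span hz
      exact this
  have hdvd : ∀ w, g ∣ ι w := by
    intro w
    have hle : Submodule.span R (s : Set R) ≤ Ideal.span {g} :=
      Submodule.span_le.mpr fun z hz => Ideal.mem_span_singleton.mpr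
        (Finset.gcd_dvd (f := id) (Finset.mem_insert_of_mem hz))
    exact Ideal.mem_span_singleton.mp (hle (hs.ge (LinearMap.mem_range_self ι w)))
  choose q hq using hdvd
  let φ₁ : Module.Dual R N :=
    { toFun := q
      map_add' := fun a b => mul_left_cancel₀ hg0 (by rw [mul_add, ← hq, ← hq, ← hq, map_add])
      map_smul' := fun c a => mul_left_cancel₀ hg0 (by
        rw [RingHom.id_apply, smul_eq_mul, mul_left_comm, ← hq, ← hq, map_smul, smul_eq_mul]) }
  have hφ₁ : ∀ w, ι w = g * φ₁ w := hq
  have hc0 : φ₁ w₀ ≠ 0 := fun h => hx₀ (by rw [hx₀def, hφ₁, h, mul_zero])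
  refine ⟨LinearEquiv.ofBijective (LinearMap.toSpanSingleton R _ φ₁) ⟨?_, ?_⟩⟩
  · intro a b hab
    have h1 := LinearMap.congr_fun hab w₀
    simp only [LinearMap.toSpanSingleton_apply, LinearMap.smul_apply, smul_eq_mul] at h1
    exact mul_right_cancel₀ hc0 h1
  · intro φ
    have h1 : x₀ ∣ φ w₀ * g := by
      have h2 : x₀ ∣ (insert x₀ s).gcd fun z => φ w₀ * id z := by
        refine Finset.dvd_gcd fun z hz => ?_
        obtain ⟨w, rfl⟩ := hmem z hz
        exact ⟨φ w, by rw [id, ← key φ w, mul_comm]⟩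
      exact h2.trans (Finset.gcd_mul_left' (insert x₀ s) id (φ w₀)).dvd
    rw [hx₀def, hφ₁, mul_comm (φ w₀)] at h1
    obtain ⟨c, hc⟩ := (mul_dvd_mul_iff_left hg0).mp h1
    refine ⟨c, LinearMap.ext fun w => mul_right_cancel₀ hx₀ ?_⟩
    rw [LinearMap.toSpanSingleton_apply, LinearMap.smul_apply, smul_eq_mul, key φ w, hc, hx₀def, hφ₁ w, hφ₁ w₀]
    ring

/-- The difference of a polynomial and its translate by one has smaller degree. -/
theorem comp_sub_mem_degreeLT {P : ℚ[X]} {j : ℕ} (hP : P ∈ degreeLT ℚ (j + 1)) :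
    P.comp (X + C 1) - P ∈ degreeLT ℚ j := by
  rw [mem_degreeLT] at hP ⊢
  rcases eq_or_ne P 0 with rfl | h0
  · simp
  · have hd : (P.comp (X + C 1)).degree = P.degree := by
      rw [← taylor_apply, degree_taylor]
    have hl : (P.comp (X + C 1)).leadingCoeff = P.leadingCoeff := by
      rw [← taylor_apply, leadingCoeff_taylor]
    have hne : P.comp (X + C 1) ≠ 0 := fun h => h0 (degree_eq_bot.mp (by rw [← hd, h, degree_zero]))
    refine (Polynomial.degree_sub_lt_left hd hne hl).trans_le ?_
    rw [hd, degree_eq_natDegree h0] at *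
    exact_mod_cast Nat.lt_succ_iff.mp (by exact_mod_cast hP)

/-- Two translates of the binomial of degree `j + 1` differing by a polynomial of degree below `j` are equal. -/
theorem eq_of_choose_sub {j : ℕ} : ∀ {a b : ℤ} {P : ℚ[X]}, P ∈ degreeLT ℚ j →
    (∀ t : ℕ, ((Ring.choose ((t : ℤ) + a) (j + 1) - Ring.choose ((t : ℤ) + b) (j + 1) : ℤ) : ℚ) =
      P.eval (t : ℚ)) → a = b := by
  induction j with
  | zero =>
    intro a b P hP h
    rw [mem_degreeLT] at hP
    have hP0 : P = 0 := degree_eq_bot.mp (by simpa using hP)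
    have h0 := h 0
    rw [hP0, eval_zero, Ring.choose_one_right, Ring.choose_one_right] at h0
    simp only [Nat.cast_zero, zero_add, Int.cast_eq_zero] at h0
    omega
  | succ j ih =>
    intro a b P hP h
    refine ih (comp_sub_mem_degreeLT hP) fun t => ?_
    have h1 := h (t + 1)
    have h2 := h t
    have e : ∀ c : ℤ, ((t + 1 : ℕ) : ℤ) + c = ((t : ℤ) + c) + 1 := fun c => by push_cast; ring
    rw [e, e, Ring.choose_succ_succ, Ring.choose_succ_succ] at h1
    rw [eval_sub, eval_comp, eval_add, eval_X, eval_C]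
    push_cast at h1 h2 ⊢
    linarith

end Groth.Agent.HypHilb28
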