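import Groth.Agent.HypHilb28.Alg
import Groth.Agent.Ref1.Hull
import Groth.Agent.LFDesc.Invertible
import Groth.Agent.CohDev.K0
import Groth.Agent.Omega.Stalks
import Groth.Agent.TopDimLib.Basic

/-!
# The invertible hull of a nonzero ideal sheaf on a locally factorial scheme
-/

set_option autoImplicit false
set_option linter.style.haveILetI false

universe u

open CategoryTheory CategoryTheory.Limits AlgebraicGeometry TopologicalSpace
open Groth.Agent.PullStalk.Sky Groth.Agent.PullStalk.Exact

noncomputable section

namespace Groth.Agent.HypHilb28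

open Groth.Agent.HomShQC Groth.Agent.Ref1

variable {X : Scheme.{u}} [IsIntegral X] [IsLocallyNoetherian X]

/-- The inclusion of a stalk of a submodule of the structure module into the local ring. -/
def stalkIncl {M : X.Modules} (incl : M ⟶ Coh.structureModule X) (x : X) :
    M.presheaf.stalk x →ₗ[X.presheaf.stalk x] X.presheaf.stalk x :=
  (unitStalk x).symm.toLinearMap ∘ₗ RefHull.stalkMapₗ incl x

theorem stalkIncl_injective {M : X.Modules} (incl : M ⟶ Coh.structureModule X) [Mono incl] (x : X) :
    Function.Injective (stalkIncl incl x) :=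
  (unitStalk x).symm.injective.comp (CohDev.stalk_injective incl x)

theorem isTorsionFree_stalk {M : X.Modules} (incl : M ⟶ Coh.structureModule X) [Mono incl] (x : X) :
    Module.IsTorsionFree (X.presheaf.stalk x) (M.presheaf.stalk x) :=
  Function.Injective.moduleIsTorsionFree _ (stalkIncl_injective incl x) (map_smul _)

/-- A nonzero submodule of the structure module has nonzero stalks. -/
theorem exists_stalk_ne_zero {M : X.Modules} (hM : Coh.IsCoh M) (incl : M ⟶ Coh.structureModule X)
    [Mono incl] (h0 : ¬ IsZero M) (x : X) : ∃ v : M.presheaf.stalk x, v ≠ 0 := by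
  haveI := hM.1
  by_contra hc
  push Not at hc
  refine h0 (CohDev.isZero_of_support_eq_empty (Set.eq_empty_of_forall_notMem fun y hy => hy ?_))
  have hη : ∀ w : M.presheaf.stalk (genericPoint X), w = 0 := by
    intro w
    obtain ⟨a, v, ha, hv⟩ := exists_smul_eq_toη M x w
    haveI := isTorsionFree_stalk incl (genericPoint X)
    rw [hc v, map_zero] at hv
    exact (smul_eq_zero.mp hv.symm).resolve_left (toK_ne_zero ha)
  exact subsingleton_of_forall_eq 0 fun v =>
    toη_injective M y (isTorsionFree_stalk incl y) ((hη _).trans (map_zero _).symm)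

/-- The reflexive hull of a nonzero ideal sheaf is invertible if the stalks are factorial. -/
theorem isInvertible_ddual (hufd : ∀ x : X, UniqueFactorizationMonoid (X.presheaf.stalk x))
    {M : X.Modules} (hM : Coh.IsCoh M) (incl : M ⟶ Coh.structureModule X) [Mono incl]
    (h0 : ¬ IsZero M) : PicF.IsInvertible (RefHull.ddual M) := by
  have hD := isCoh_dual M hM
  have hDD := isCoh_dual _ hD
  haveI : (RefHull.ddual M).IsQuasicoherent := hDD.1
  refine LFDesc.isInvertible_of_stalks _ (fun U hU => CohDev.finite_sections hDD hU) fun x => ?_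
  haveI := hufd x
  obtain ⟨e⟩ := nonempty_dual_equiv (stalkIncl incl x) (stalkIncl_injective incl x)
    (exists_stalk_ne_zero hM incl h0 x)
  let E : (RefHull.ddual M).presheaf.stalk x ≃ₗ[X.presheaf.stalk x] X.presheaf.stalk x :=
    ((ddualEquiv M (isFP_of_isCoh M hM) (isFP_of_isCoh _ hD) x).trans e.dualMap).trans
      (LinearMap.ringLmapEquivSelf (X.presheaf.stalk x) (X.presheaf.stalk x) (X.presheaf.stalk x))
  exact ⟨(Module.Basis.singleton (Fin 1) _).map E.symm⟩

/-- A nonzero ideal sheaf embeds in its reflexive hull. -/
theorem mono_bidualMap {M : X.Modules} (hM : Coh.IsCoh M) (incl : M ⟶ Coh.structureModule X)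
    [Mono incl] : Mono (RefHull.bidualMap M) := by
  refine Omega.Stalks.mono_of_stalk fun x => ?_
  refine (injective_iff_map_eq_zero (RefHull.stalkMapₗ (RefHull.bidualMap M) x)).mpr fun v hv => ?_
  have h1 := ddualEquiv_bidual M (isFP_of_isCoh M hM) (isFP_of_isCoh _ (isCoh_dual M hM)) x v
  rw [hv, map_zero] at h1
  have h2 := LinearMap.congr_fun h1.symm (stalkIncl incl x)
  exact stalkIncl_injective incl x (h2.trans (map_zero _).symm)

/-- The cokernel of biduality is supported in codimension at least two. -/
theorem two_le_coheight_of_mem_support (hX : Pi1.IsNormalScheme X) {M : X.Modules} (hM : Coh.IsCoh M)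
    {y : X} (hy : y ∈ CohB1.support (cokernel (RefHull.bidualMap M))) :
    (2 : ℕ) ≤ Order.coheight y := by
  by_contra hc
  refine CohDev.not_mem_support_cokernel (RefHull.bidualMap M) ?_ hy
  have h2 : Order.coheight y ≤ 1 := by
    rw [not_le] at hc
    exact Order.le_of_lt_add_one (α := ℕ∞) (by exact_mod_cast hc)
  rcases eq_or_lt_of_le h2 with h1 | h1
  · obtain ⟨_, hdvr⟩ := VarDim.isDiscreteValuationRing_stalk_of_coheight_eq_one hX y h1
    exact surjective_bidual_of_dvr M hM y
  · have hy0 : Order.coheight y = 0 := Order.lt_one_iff.mp h1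
    have hmax : IsMax y := Order.coheight_eq_zero.mp hy0
    have hgy : genericPoint X ⤳ y := (genericPoint_spec X).specializes (Set.mem_univ y)
    have hyg : y ⤳ genericPoint X := hmax hgy
    have hye : y = genericPoint X := (hyg.antisymm hgy).eq
    subst hye
    exact (bijective_bidual_η M hM).2

omit [IsIntegral X] [IsLocallyNoetherian X] in
/-- A closed set all of whose points have coheight at least two has codimension at least two. -/
theorem dim_lt_of_two_le_coheight {r : ℕ} (hdim : topologicalKrullDim X ≤ (r : WithBot ℕ∞))
    {S : Set X} (hS : IsClosed S) (h : ∀ y ∈ S, (2 : ℕ) ≤ Order.coheight y) :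
    topologicalKrullDim ↥S < ((r - 1 : ℕ) : WithBot ℕ∞) := by
  have key : ∀ l : LTSeries (IrreducibleCloseds ↥S), l.length + 2 ≤ r := by
    intro l
    let l' : LTSeries (IrreducibleCloseds X) :=
      l.map _ (IrreducibleCloseds.map_strictMono_of_isInducing Topology.IsInducing.subtypeVal)
    let y := l'.last.isIrreducible.genericPoint
    have hgen : closure {y} = (l'.last : Set X) :=
      l'.last.isIrreducible.closure_genericPoint l'.last.isClosed
    have hyS : y ∈ S := by
      have hsub : (l'.last : Set X) ⊆ S := by
        show closure ((Subtype.val : ↥S → X) '' (l.last : Set ↥S)) ⊆ S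
        refine closure_minimal ?_ hS
        rintro _ ⟨z, -, rfl⟩
        exact z.2
      exact hsub (hgen ▸ subset_closure rfl)
    obtain ⟨p, hp, hpl⟩ := Order.exists_series_of_le_coheight y (n := 2) (h y hyS)
    let c : X → IrreducibleCloseds X := fun z => ⟨closure {z}, isIrreducible_singleton.closure, isClosed_closure⟩
    have hc : StrictMono c := by
      intro a b hab
      have hle : (c a : Set X) ⊆ c b := specializes_iff_closure_subset.mp hab.le
      refine lt_of_le_not_ge hle fun hge => hab.not_ge ?_
      exact specializes_iff_closure_subset.mpr hge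
    let q : LTSeries (IrreducibleCloseds X) := p.map c hc
    have hq : l'.last = q.head := by
      refine IrreducibleCloseds.ext ?_
      show (l'.last : Set X) = closure {p.head}
      rw [hp, hgen]
    have h1 : ((RelSeries.smash l' q hq).length : WithBot ℕ∞) ≤ (r : WithBot ℕ∞) :=
      (Order.LTSeries.length_le_krullDim _).trans hdim
    have h2 : (RelSeries.smash l' q hq).length ≤ r := by exact_mod_cast h1
    have h3 : (RelSeries.smash l' q hq).length = l.length + 2 := by
      show l.length + p.length = l.length + 2
      rw [hpl]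
    omega
  cases isEmpty_or_nonempty (IrreducibleCloseds ↥S) with
  | inl h' =>
    rw [topologicalKrullDim, Order.krullDim_eq_bot]
    exact WithBot.bot_lt_coe _
  | inr h' =>
    have hr : 2 ≤ r := le_trans (Nat.le_add_left _ _) (key (RelSeries.singleton _ h'.some))
    refine lt_of_le_of_lt (b := ((r - 2 : ℕ) : WithBot ℕ∞)) (iSup_le fun l => ?_)
      (by exact_mod_cast (show r - 2 < r - 1 by omega))
    have := key l
    exact_mod_cast (show l.length ≤ r - 2 by omega)

end Groth.Agent.HypHilb28

end
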